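import Groth.Agent.UnitSmLib.Alg

/-!
# An equation smooth at finitely many generizations
-/

set_option autoImplicit false
set_option maxHeartbeats 1600000
set_option maxRecDepth 8000
set_option linter.style.haveILetI false
set_option backward.isDefEq.respectTransparency false
universe u

open CategoryTheory CategoryTheory.Limits AlgebraicGeometry TopologicalSpace Opposite
open scoped Polynomial

noncomputable section

namespace UnitSmLib

theorem exists_equation {k : Type u} [Field k] [Infinite k]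
    (X : Scheme.{u}) (f : X ⟶ Spec (CommRingCat.of k)) [LocallyOfFiniteType f]
    (u : Γ(X, ⊤)) [Smooth ((X.basicOpen u).ι ≫ f)]
    (x : ↥X) (hx : x ∉ X.basicOpen u)
    {ι : Type} [Finite ι] (x' : ι → ↥X) (hx' : ∀ i, x' i ∈ X.basicOpen u) (hgen : ∀ i, x' i ⤳ x) :
    ∃ (X' : X.Opens) (e : Γ(X, X')) (g : (↑X' : Scheme.{u}) ⟶ Spec (CommRingCat.of (Polynomial k))),
      x ∈ X' ∧ IsUnit e ∧
      g ≫ Spec.map (CommRingCat.ofHom (Polynomial.C : k →+* Polynomial k)) = X'.ι ≫ f ∧
      X'.topIso.hom (g.appTop ((Scheme.ΓSpecIso (CommRingCat.of (Polynomial k))).inv Polynomial.X)) =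
        e * X.presheaf.map (homOfLE le_top).op u ∧
      ∀ i, ∃ (W : X.Opens) (hW : W ≤ X'), x' i ∈ W ∧ Smooth (X.homOfLE hW ≫ g) := by
  obtain ⟨V, hV, hxV, -⟩ := exists_isAffineOpen_mem_and_subset (x := x) (U := (⊤ : X.Opens)) trivial
  have hx'V : ∀ i, x' i ∈ V := fun i => (hgen i).mem_open V.2 hxV
  let α : CommRingCat.of k ⟶ Γ(X, V) :=
    (Scheme.ΓSpecIso (CommRingCat.of k)).inv ≫ f.appLE ⊤ V le_top
  letI : Algebra k Γ(X, V) := α.hom.toAlgebra
  haveI : Algebra.FiniteType k Γ(X, V) := by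
    have h := HasRingHomProperty.appLE @LocallyOfFiniteType f inferInstance ⟨⊤, isAffineOpen_top _⟩ ⟨V, hV⟩ le_top
    exact RingHom.FiniteType.comp h (RingHom.FiniteType.of_surjective _
      (ConcreteCategory.bijective_of_isIso (Scheme.ΓSpecIso (CommRingCat.of k)).inv).2)
  haveI : Algebra.FinitePresentation k Γ(X, V) := Algebra.FinitePresentation.of_finiteType.1 inferInstance
  let u' : Γ(X, V) := X.presheaf.map (homOfLE le_top).op u
  have hmem : ∀ (c : Γ(X, V)) (y : X) (hy : y ∈ V),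
      y ∈ X.basicOpen c ↔ c ∉ (hV.primeIdealOf ⟨y, hy⟩).asIdeal := fun c y hy => by
    conv_lhs => rw [show y = hV.fromSpec (hV.primeIdealOf ⟨y, hy⟩) from (hV.fromSpec_primeIdealOf ⟨y, hy⟩).symm]
    show hV.primeIdealOf ⟨y, hy⟩ ∈ hV.fromSpec ⁻¹ᵁ X.basicOpen c ↔ _
    rw [hV.fromSpec_preimage_basicOpen]
    rfl
  have hbu : X.basicOpen u' = V ⊓ X.basicOpen u := X.basicOpen_res u _
  let p := (hV.primeIdealOf ⟨x, hxV⟩).asIdeal
  let q : ι → Ideal Γ(X, V) := fun i => (hV.primeIdealOf ⟨x' i, hx'V i⟩).asIdeal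
  haveI : ∀ i, (q i).IsPrime := fun i => (hV.primeIdealOf ⟨x' i, hx'V i⟩).2
  have huq : ∀ i, u' ∉ q i := fun i => (hmem u' _ (hx'V i)).1 (hbu ▸ ⟨hx'V i, hx' i⟩)
  have hqmax : ∀ i, ¬ (q i).IsMaximal := fun i hmax => by
    have hle : q i ≤ p := (PrimeSpectrum.le_iff_specializes _ _).2
      (hV.fromSpec.isOpenEmbedding.isInducing.specializes_iff.1 (by
        rw [hV.fromSpec_primeIdealOf, hV.fromSpec_primeIdealOf]; exact hgen i))
    have he : hV.primeIdealOf ⟨x' i, hx'V i⟩ = hV.primeIdealOf ⟨x, hxV⟩ :=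
      PrimeSpectrum.ext (hmax.eq_of_le (Ideal.IsPrime.ne_top inferInstance) hle)
    have := congrArg hV.fromSpec he
    rw [hV.fromSpec_primeIdealOf, hV.fromSpec_primeIdealOf] at this
    have h' : x' i = x := this
    exact hx (h' ▸ hx' i)
  -- smoothness over `k` away from the zeros of `u`
  have hsm : ∀ i, Algebra.IsSmoothAt k (q i) := fun i => by
    have hD := hV.basicOpen u'
    have hDu : X.basicOpen u' ≤ X.basicOpen u := hbu.le.trans inf_le_right
    haveI hs1 : Smooth ((X.basicOpen u').ι ≫ f) := by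
      rw [← Scheme.homOfLE_ι X hDu, Category.assoc]
      infer_instance
    haveI hs2 : Smooth (hD.fromSpec ≫ f) := by
      rw [← hD.isoSpec_inv_ι, Category.assoc]
      infer_instance
    have h := IsAffineOpen.SpecMap_appLE_fromSpec f (isAffineOpen_top _) hD (le_top : X.basicOpen u' ≤ f ⁻¹ᵁ ⊤)
    have hs3 : Smooth (Spec.map (f.appLE ⊤ (X.basicOpen u') le_top)) := by
      rw [← MorphismProperty.cancel_right_of_respectsIso @Smooth _ (Spec (CommRingCat.of k)).isoSpec.inv]
      rw [IsAffineOpen.fromSpec_top] at h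
      exact h ▸ hs2
    have hring : (α ≫ X.presheaf.map (homOfLE (X.basicOpen_le u')).op).hom.Smooth := by
      show ((Scheme.ΓSpecIso (CommRingCat.of k)).inv ≫ f.appLE ⊤ V le_top ≫ _).hom.Smooth
      rw [Scheme.Hom.appLE_map, ← RingHom.Smooth.propertyIsLocal.respectsIso.cancel_left_isIso
        (Scheme.ΓSpecIso (CommRingCat.of k)).hom, ← CommRingCat.hom_comp, Iso.hom_inv_id_assoc]
      exact (HasRingHomProperty.Spec_iff (P := @Smooth)).1 hs3
    letI := hV.isLocalization_basicOpen u'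
    letI : Algebra k Γ(X, X.basicOpen u') := (α ≫ X.presheaf.map (homOfLE (X.basicOpen_le u')).op).hom.toAlgebra
    haveI : IsScalarTower k Γ(X, V) Γ(X, X.basicOpen u') := IsScalarTower.of_algebraMap_eq' rfl
    haveI : Algebra.Smooth k Γ(X, X.basicOpen u') := hring
    haveI : Algebra.FormallySmooth k (Localization.Away u') := Algebra.FormallySmooth.of_equiv
      ((IsLocalization.algEquiv (Submonoid.powers u') Γ(X, X.basicOpen u') (Localization.Away u')).restrictScalars k)
    exact Algebra.basicOpen_subset_smoothLocus_iff.2 inferInstance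
      (show hV.primeIdealOf ⟨x' i, hx'V i⟩ ∈ PrimeSpectrum.basicOpen u' from huq i)
  haveI := hsm
  obtain ⟨e, hep, he⟩ := exists_mul (k := k) p u' q huq hqmax
  let aev : k[X] →ₐ[k] Γ(X, V) := Polynomial.aeval (e * u')
  letI : Algebra k[X] Γ(X, V) := aev.toRingHom.toAlgebra
  haveI : IsScalarTower k k[X] Γ(X, V) := IsScalarTower.of_algebraMap_eq' aev.comp_algebraMap.symm
  have hX : algebraMap k[X] Γ(X, V) Polynomial.X = e * u' := Polynomial.aeval_X _
  haveI : Algebra.FinitePresentation k[X] Γ(X, V) :=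
    Algebra.FinitePresentation.of_restrict_scalars_finitePresentation k k[X] Γ(X, V)
  let gV : (V : Scheme.{u}) ⟶ Spec (CommRingCat.of k[X]) :=
    hV.isoSpec.hom ≫ Spec.map (CommRingCat.ofHom (algebraMap k[X] Γ(X, V)))
  let X' := X.basicOpen e
  refine ⟨X', X.presheaf.map (homOfLE (X.basicOpen_le e)).op e, X.homOfLE (X.basicOpen_le e) ≫ gV,
    (hmem e x hxV).2 hep, X.toRingedSpace.isUnit_res_basicOpen e, ?_, ?_, fun i => ?_⟩
  · have e1 : CommRingCat.ofHom (Polynomial.C : k →+* k[X]) ≫ CommRingCat.ofHom (algebraMap k[X] Γ(X, V)) = α :=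
      CommRingCat.hom_ext (IsScalarTower.algebraMap_eq k k[X] Γ(X, V)).symm
    have e2 : gV ≫ Spec.map (CommRingCat.ofHom (Polynomial.C : k →+* k[X])) = V.ι ≫ f := by
      rw [show gV = hV.isoSpec.hom ≫ _ from rfl, Category.assoc, ← Spec.map_comp, e1, Spec.map_comp,
        ← cancel_epi hV.isoSpec.inv, Iso.inv_hom_id_assoc, hV.isoSpec_inv_ι_assoc,
        ← IsAffineOpen.SpecMap_appLE_fromSpec f (isAffineOpen_top _) hV (le_top : V ≤ f ⁻¹ᵁ ⊤),
        IsAffineOpen.fromSpec_top, Scheme.isoSpec_Spec_inv]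
    rw [Category.assoc, e2, Scheme.homOfLE_ι_assoc]
  · have e1 : gV.appTop ((Scheme.ΓSpecIso (CommRingCat.of k[X])).inv Polynomial.X) = V.topIso.inv (e * u') := by
      have : (Scheme.ΓSpecIso (CommRingCat.of k[X])).inv ≫ gV.appTop =
          CommRingCat.ofHom (algebraMap k[X] Γ(X, V)) ≫ V.topIso.inv := by
        rw [show gV = hV.isoSpec.hom ≫ _ from rfl, Scheme.Hom.comp_appTop, ← Category.assoc,
          ← Scheme.ΓSpecIso_inv_naturality, hV.isoSpec_hom_appTop, Category.assoc, Iso.inv_hom_id_assoc]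
      rw [← CommRingCat.comp_apply, this, CommRingCat.comp_apply]
      exact congrArg V.topIso.inv hX
    rw [Scheme.Hom.comp_appTop, CommRingCat.comp_apply, e1]
    simp only [Scheme.Opens.topIso_inv, Scheme.homOfLE_appTop, Scheme.Opens.topIso_hom, map_mul, u']
    simp only [← CommRingCat.comp_apply, ← Functor.map_comp, ← op_comp, homOfLE_comp, eqToHom_op]
    congr 1
  · haveI : Algebra.IsSmoothAt k[X] (q i) := isSmoothAt_of_D_ne_zero (k := k) (q i) (by rw [hX]; exact he i)
    obtain ⟨c, hc, hcs⟩ := Algebra.IsSmoothAt.exists_notMem_smooth k[X] (q i)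
    have hxe : x' i ∈ X' := (hgen i).mem_open X'.2 ((hmem e x hxV).2 hep)
    refine ⟨X.basicOpen c ⊓ X', inf_le_right, ⟨(hmem c _ (hx'V i)).2 hc, hxe⟩, ?_⟩
    rw [← Category.assoc, Scheme.homOfLE_homOfLE,
      ← Scheme.homOfLE_homOfLE X (inf_le_left : X.basicOpen c ⊓ X' ≤ X.basicOpen c) (X.basicOpen_le c), Category.assoc]
    have hDc := hV.basicOpen c
    have key : X.homOfLE (X.basicOpen_le c) ≫ hV.isoSpec.hom =
        hDc.isoSpec.hom ≫ Spec.map (X.presheaf.map (homOfLE (X.basicOpen_le c)).op) := by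
      rw [← cancel_mono hV.fromSpec, Category.assoc, Category.assoc, hV.map_fromSpec hDc,
        ← hV.isoSpec_inv_ι, ← hDc.isoSpec_inv_ι, Iso.hom_inv_id_assoc, Iso.hom_inv_id_assoc, Scheme.homOfLE_ι]
    haveI : Smooth (X.homOfLE (X.basicOpen_le c) ≫ gV) := by
      rw [show gV = hV.isoSpec.hom ≫ _ from rfl, ← Category.assoc, key, Category.assoc, ← Spec.map_comp,
        MorphismProperty.cancel_left_of_respectsIso @Smooth, HasRingHomProperty.Spec_iff (P := @Smooth)]
      letI := hV.isLocalization_basicOpen c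
      letI : Algebra k[X] Γ(X, X.basicOpen c) :=
        ((algebraMap Γ(X, V) Γ(X, X.basicOpen c)).comp (algebraMap k[X] Γ(X, V))).toAlgebra
      haveI : IsScalarTower k[X] Γ(X, V) Γ(X, X.basicOpen c) := IsScalarTower.of_algebraMap_eq' rfl
      show Algebra.Smooth k[X] Γ(X, X.basicOpen c)
      exact Algebra.Smooth.of_equiv
        ((IsLocalization.algEquiv (Submonoid.powers c) (Localization.Away c) Γ(X, X.basicOpen c)).restrictScalars k[X])
    infer_instance

end UnitSmLib

end
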