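import Mathlib
import Groth.Agent.S10955

/-!
# Smooth functions at finitely many non-closed points
-/

set_option autoImplicit false
set_option maxHeartbeats 1600000
set_option linter.style.haveILetI false
universe u

open TensorProduct Polynomial

noncomputable section

namespace UnitSmLib

variable {k C : Type u} [Field k] [CommRing C] [Algebra k C] [Algebra.FiniteType k C]

theorem exists_D_ne_zero (q : Ideal C) [q.IsPrime] (hq : ¬ q.IsMaximal) :
    ∃ c : C, (1 : q.ResidueField) ⊗ₜ[C] KaehlerDifferential.D k C c ≠ 0 := by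
  by_contra hc
  push Not at hc
  have hzero : ∀ z : q.ResidueField ⊗[C] KaehlerDifferential k C, z = 0 := fun z => by
    induction z using TensorProduct.induction_on with
    | zero => rfl
    | tmul a w =>
      induction (show w ∈ Submodule.span C (Set.range (KaehlerDifferential.D k C)) from
          KaehlerDifferential.span_range_derivation k C ▸ Submodule.mem_top) using Submodule.span_induction with
      | mem w hw =>
        obtain ⟨c, rfl⟩ := hw
        rw [show a ⊗ₜ[C] KaehlerDifferential.D k C c = a • ((1 : q.ResidueField) ⊗ₜ[C] KaehlerDifferential.D k C c) by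
          rw [TensorProduct.smul_tmul', smul_eq_mul, mul_one], hc, smul_zero]
      | zero => exact tmul_zero _ _
      | add _ _ _ _ h1 h2 => rw [tmul_add, h1, h2, add_zero]
      | smul c _ _ h1 => rw [tmul_smul, h1, smul_zero]
    | add x y hx hy => rw [hx, hy, add_zero]
  haveI : Algebra.FormallyUnramified (C ⧸ q) q.ResidueField :=
    Algebra.FormallyUnramified.of_isLocalization (nonZeroDivisors (C ⧸ q))
  haveI : Algebra.FormallyUnramified C q.ResidueField :=
    Algebra.FormallyUnramified.comp C (C ⧸ q) q.ResidueField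
  haveI : Algebra.FormallyUnramified k q.ResidueField := ⟨⟨fun a b => by
    have hs : ∀ w : KaehlerDifferential k q.ResidueField, w = 0 := fun w => by
      obtain ⟨v, rfl⟩ := (KaehlerDifferential.exact_mapBaseChange_map k C q.ResidueField w).1 (Subsingleton.elim _ _)
      rw [hzero v, map_zero]
    rw [hs a, hs b]⟩⟩
  haveI : Algebra.EssFiniteType k q.ResidueField := Algebra.EssFiniteType.comp k C q.ResidueField
  haveI : Module.Finite k q.ResidueField := Algebra.FormallyUnramified.finite_of_free k q.ResidueField
  haveI : Algebra.IsIntegral k (C ⧸ q) :=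
    Algebra.IsIntegral.of_injective (IsScalarTower.toAlgHom k (C ⧸ q) q.ResidueField)
      (IsFractionRing.injective (C ⧸ q) q.ResidueField)
  exact hq (Ideal.Quotient.maximal_of_isField _ (isField_of_isIntegral_of_isField' (Field.toIsField k)))

/-- An element outside `p` whose product with `u` has nonzero differential at the given points. -/
theorem exists_mul [Infinite k] {ι : Type} [Finite ι] (p : Ideal C) [p.IsPrime] (u : C)
    (q : ι → Ideal C) [∀ i, (q i).IsPrime] (hu : ∀ i, u ∉ q i) (hq : ∀ i, ¬ (q i).IsMaximal) :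
    ∃ e : C, e ∉ p ∧ ∀ i, (1 : (q i).ResidueField) ⊗ₜ[C] KaehlerDifferential.D k C (e * u) ≠ 0 := by
  let L : ∀ i, C →ₗ[k] (q i).ResidueField ⊗[C] KaehlerDifferential k C := fun i =>
    ((TensorProduct.mk C (q i).ResidueField (KaehlerDifferential k C) 1).restrictScalars k).comp
      ((KaehlerDifferential.D k C).toLinearMap.comp (LinearMap.mulRight k u))
  let S : Option ι → Subspace k C
    | none => p.restrictScalars k
    | some i => LinearMap.ker (L i)
  by_contra hc
  push Not at hc
  obtain ⟨o, ho⟩ := Subspace.exists_eq_top_of_iUnion_eq_univ (p := S) (Set.eq_univ_of_forall fun e => by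
    by_cases he : e ∈ p
    · exact Set.mem_iUnion.2 ⟨none, he⟩
    · obtain ⟨i, hi⟩ := hc e he
      exact Set.mem_iUnion.2 ⟨some i, hi⟩)
  cases o with
  | none => exact (Ideal.IsPrime.ne_top ‹_›) ((Submodule.restrictScalars_eq_top_iff k C C).1 ho)
  | some i =>
    have hall : ∀ e : C, (1 : (q i).ResidueField) ⊗ₜ[C] KaehlerDifferential.D k C (e * u) = 0 := fun e =>
      (ho ▸ Submodule.mem_top : e ∈ S (some i))
    obtain ⟨c, hcne⟩ := exists_D_ne_zero (k := k) (q i) (hq i)
    have h1 := hall c
    have h2 := hall 1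
    rw [one_mul] at h2
    rw [Derivation.leibniz, tmul_add, tmul_smul, tmul_smul, h2, smul_zero, zero_add] at h1
    have hu0 : algebraMap C (q i).ResidueField u ≠ 0 := fun h => hu i ((Ideal.algebraMap_residueField_eq_zero).1 h)
    rw [← algebraMap_smul (q i).ResidueField u, smul_eq_zero] at h1
    exact hcne (h1.resolve_left hu0)

theorem isSmoothAt_of_D_ne_zero [Algebra k[X] C] [IsScalarTower k k[X] C] (q : Ideal C) [q.IsPrime]
    [Algebra.IsSmoothAt k q]
    (h : (1 : q.ResidueField) ⊗ₜ[C] KaehlerDifferential.D k C (algebraMap k[X] C X) ≠ 0) :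
    Algebra.IsSmoothAt k[X] q := by
  haveI : Algebra.FinitePresentation k C := Algebra.FinitePresentation.of_finiteType.1 inferInstance
  refine (Groth.Agent.S10955.result k k[X] C q inferInstance inferInstance).2 ?_
  let z₀ : C ⊗[k[X]] KaehlerDifferential k k[X] := 1 ⊗ₜ KaehlerDifferential.D k k[X] X
  have hgen : ∀ y : C ⊗[k[X]] KaehlerDifferential k k[X], ∃ c : C, y = c • z₀ := fun y => by
    induction y using TensorProduct.induction_on with
    | zero => exact ⟨0, (zero_smul _ _).symm⟩
    | tmul c w =>
      refine ⟨c * algebraMap k[X] C (KaehlerDifferential.polynomialEquiv k w), ?_⟩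
      conv_lhs => rw [← (KaehlerDifferential.polynomialEquiv k).symm_apply_apply w,
        KaehlerDifferential.polynomialEquiv_symm, TensorProduct.tmul_smul]
      rw [mul_smul, TensorProduct.smul_tmul', TensorProduct.smul_tmul', TensorProduct.smul_tmul']
      congr 1
      rw [Algebra.smul_def, smul_eq_mul, smul_eq_mul, mul_one, mul_comm]
    | add x y hx hy =>
      obtain ⟨a, rfl⟩ := hx
      obtain ⟨b, rfl⟩ := hy
      exact ⟨a + b, (add_smul a b _).symm⟩
  have hgen' : ∀ y : q.ResidueField ⊗[C] (C ⊗[k[X]] KaehlerDifferential k k[X]),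
      ∃ a : q.ResidueField, y = a ⊗ₜ z₀ := fun y => by
    induction y using TensorProduct.induction_on with
    | zero => exact ⟨0, (zero_tmul _ _).symm⟩
    | tmul a w =>
      obtain ⟨c, rfl⟩ := hgen w
      exact ⟨c • a, by rw [TensorProduct.smul_tmul]⟩
    | add x y hx hy =>
      obtain ⟨a, rfl⟩ := hx
      obtain ⟨b, rfl⟩ := hy
      exact ⟨a + b, (add_tmul a b _).symm⟩
  rw [injective_iff_map_eq_zero]
  intro y hy
  obtain ⟨a, rfl⟩ := hgen' y
  rw [LinearMap.lTensor_tmul, KaehlerDifferential.mapBaseChange_tmul, one_smul, KaehlerDifferential.map_D,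
    show a ⊗ₜ[C] KaehlerDifferential.D k C (algebraMap k[X] C X) =
      a • ((1 : q.ResidueField) ⊗ₜ[C] KaehlerDifferential.D k C (algebraMap k[X] C X)) by
      rw [TensorProduct.smul_tmul', smul_eq_mul, mul_one], smul_eq_zero] at hy
  rw [hy.resolve_right h, zero_tmul]

end UnitSmLib

end
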